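import Mathlib
import Cfsg.Agent.Lib.BNSteinberg.Section

/-!
The Hecke algebra of a Tits system, as bi-invariant functions under normalised convolution.
-/

set_option linter.unusedSectionVars false

namespace CfsgLib.Hecke

open CfsgLib.Chev.BN CfsgLib.BNSteinberg
open scoped ComplexConjugate

/-- A Tits system with Weyl group the Coxeter group of `M`, all parameters equal to `q`. -/
structure Sys {G : Type*} [Group G] (P : Cfsg.BNPair G) {ι : Type*} (M : CoxeterMatrix ι) (q : ℕ) where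
  φ : ↥P.N →* M.Group
  surj : Function.Surjective φ
  ker : ∀ x : ↥P.N, φ x = 1 ↔ (x : G) ∈ P.B
  s : ι → G
  s_mem : ∀ i, s i ∈ P.S
  φ_s : ∀ i, φ ⟨s i, P.subset (s_mem i)⟩ = M.simple i
  s_surj : ∀ x ∈ P.S, ∃ i, s i = x
  card_cell : ∀ i, Nat.card {x : G // x ∈ cell P (s i)} = q * Nat.card P.B

variable {G : Type*} [Group G] [Fintype G] {P : Cfsg.BNPair G} {ι : Type*} {M : CoxeterMatrix ι} {q : ℕ}

/-- Normalised convolution. -/
noncomputable def conv (P : Cfsg.BNPair G) (F F' : G → ℂ) : G → ℂ :=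
  fun g => (Nat.card P.B : ℂ)⁻¹ * ∑ x, F x * F' (x⁻¹ * g)

theorem cB_ne_zero : (Nat.card P.B : ℂ) ≠ 0 := Nat.cast_ne_zero.2 Nat.card_pos.ne'

theorem conv_assoc (F F' F'' : G → ℂ) : conv P (conv P F F') F'' = conv P F (conv P F' F'') := by
  funext g
  simp only [conv, Finset.mul_sum, Finset.sum_mul]
  rw [Finset.sum_comm]
  refine Finset.sum_congr rfl fun x _ => Fintype.sum_equiv (Equiv.mulLeft x⁻¹) _ _ fun y => ?_
  simp only [Equiv.coe_mulLeft, show (x⁻¹ * y)⁻¹ * (x⁻¹ * g) = y⁻¹ * g by group]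
  ring

theorem conv_inv (F F' : G → ℂ) :
    (fun g => conv P F F' g⁻¹) = conv P (fun g => F' g⁻¹) (fun g => F g⁻¹) := by
  funext g
  simp only [conv]
  congr 1
  refine Fintype.sum_equiv ((Equiv.mulLeft g).trans (Equiv.refl G)) _ _ fun x => ?_
  simp only [Equiv.trans_apply, Equiv.coe_mulLeft, Equiv.refl_apply,
    show (g * x)⁻¹ = x⁻¹ * g⁻¹ by group, show ((g * x)⁻¹ * g)⁻¹ = x by group, mul_comm (F x)]
  rw [show (x⁻¹ * g⁻¹ * g)⁻¹ = x by group]

theorem conv_add_left (F F' F'' : G → ℂ) : conv P (F + F') F'' = conv P F F'' + conv P F' F'' := by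
  funext g; simp [conv, add_mul, Finset.sum_add_distrib, mul_add]

theorem conv_add_right (F F' F'' : G → ℂ) : conv P F (F' + F'') = conv P F F' + conv P F F'' := by
  funext g; simp [conv, mul_add, Finset.sum_add_distrib]

theorem conv_smul_left (c : ℂ) (F F' : G → ℂ) : conv P (c • F) F' = c • conv P F F' := by
  funext g; simp [conv, Finset.mul_sum]; exact Finset.sum_congr rfl fun x _ => by ring

theorem conv_smul_right (c : ℂ) (F F' : G → ℂ) : conv P F (c • F') = c • conv P F F' := by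
  funext g; simp [conv, Finset.mul_sum]; exact Finset.sum_congr rfl fun x _ => by ring

/-- Convolution on the left, as a linear map. -/
noncomputable def convL (P : Cfsg.BNPair G) (F : G → ℂ) : (G → ℂ) →ₗ[ℂ] (G → ℂ) where
  toFun := conv P F
  map_add' := conv_add_right F
  map_smul' c := conv_smul_right c F

/-- Convolution on the right, as a linear map. -/
noncomputable def convR (P : Cfsg.BNPair G) (F : G → ℂ) : (G → ℂ) →ₗ[ℂ] (G → ℂ) where
  toFun F' := conv P F' F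
  map_add' A B := conv_add_left A B F
  map_smul' c A := conv_smul_left c A F

theorem conv_sum_left {κ : Type*} (t : Finset κ) (F : κ → G → ℂ) (F' : G → ℂ) :
    conv P (∑ i ∈ t, F i) F' = ∑ i ∈ t, conv P (F i) F' := map_sum (convR P F') F t

theorem conv_sum_right {κ : Type*} (t : Finset κ) (F : κ → G → ℂ) (F' : G → ℂ) :
    conv P F' (∑ i ∈ t, F i) = ∑ i ∈ t, conv P F' (F i) := map_sum (convL P F') F t

/-- A class function commutes with everything. -/
theorem conv_class {z : G → ℂ} (hz : ∀ g h : G, z (h * g * h⁻¹) = z g) (F : G → ℂ) :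
    conv P z F = conv P F z := by
  funext g
  simp only [conv]
  congr 1
  refine Fintype.sum_equiv ((Equiv.inv G).trans (Equiv.mulRight g)) _ _ fun x => ?_
  simp only [Equiv.trans_apply, Equiv.inv_apply, Equiv.coe_mulRight, mul_comm (z x)]
  rw [show (x⁻¹ * g)⁻¹ * g = g⁻¹ * x * g⁻¹⁻¹ by group, hz]

variable (𝔖 : Sys P M q)

namespace Sys

theorem exists_cell' (g : G) : ∃ n : ↥P.N, g ∈ cell P (n : G) := by
  obtain ⟨n, hn, h⟩ := exists_cell (P := P) g
  exact ⟨⟨n, hn⟩, h⟩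

/-- The Weyl group element of the cell of `g`. -/
noncomputable def wG (g : G) : M.Group := 𝔖.φ (exists_cell' (P := P) g).choose

theorem φ_eq_iff (n n' : ↥P.N) : 𝔖.φ n = 𝔖.φ n' ↔ Eqv P (n : G) n' := by
  rw [← inv_mul_eq_one, ← map_inv, ← map_mul, 𝔖.ker]
  exact ⟨fun h => ⟨h, P.N.mul_mem (P.N.inv_mem n.2) n'.2⟩, fun h => h.1⟩

theorem cell_eq_iff (n n' : ↥P.N) : cell P (n : G) = cell P n' ↔ 𝔖.φ n = 𝔖.φ n' := by
  rw [φ_eq_iff]
  exact ⟨eqv_of_cell_eq n.2 n'.2, Eqv.cell_eq⟩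

theorem wG_eq {g : G} {n : ↥P.N} (h : g ∈ cell P (n : G)) : 𝔖.wG g = 𝔖.φ n :=
  (𝔖.cell_eq_iff _ _).1 (cell_eq_of_mem₂ (exists_cell' (P := P) g).choose_spec h)

theorem wG_eq' {g n : G} (hn : n ∈ P.N) (h : g ∈ cell P n) : 𝔖.wG g = 𝔖.φ ⟨n, hn⟩ :=
  𝔖.wG_eq (n := ⟨n, hn⟩) h

theorem mem_cell_iff (g : G) (n : ↥P.N) : g ∈ cell P (n : G) ↔ 𝔖.wG g = 𝔖.φ n := by
  refine ⟨𝔖.wG_eq, fun h => ?_⟩
  have := (exists_cell' (P := P) g).choose_spec
  rwa [(𝔖.cell_eq_iff _ n).2 h] at this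

/-- A representative of a Weyl group element. -/
noncomputable def nv (w : M.Group) : ↥P.N := (𝔖.surj w).choose

theorem φ_nv (w : M.Group) : 𝔖.φ (𝔖.nv w) = w := (𝔖.surj w).choose_spec

theorem wG_nv (w : M.Group) : 𝔖.wG (𝔖.nv w : G) = w := (𝔖.wG_eq (mem_cell_self _)).trans (𝔖.φ_nv w)

theorem wG_mul_left {b : G} (hb : b ∈ P.B) (g : G) : 𝔖.wG (b * g) = 𝔖.wG g :=
  𝔖.wG_eq (mul_mem_cell hb (exists_cell' (P := P) g).choose_spec)

theorem wG_mul_right {b : G} (hb : b ∈ P.B) (g : G) : 𝔖.wG (g * b) = 𝔖.wG g :=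
  𝔖.wG_eq (mem_cell_mul hb (exists_cell' (P := P) g).choose_spec)

theorem wG_inv (g : G) : 𝔖.wG g⁻¹ = (𝔖.wG g)⁻¹ := by
  have h := inv_mem_cell (exists_cell' (P := P) g).choose_spec
  exact (𝔖.wG_eq (n := (exists_cell' (P := P) g).choose⁻¹) h).trans (map_inv _ _)

theorem wG_s (i : ι) : 𝔖.wG (𝔖.s i) = M.simple i :=
  (𝔖.wG_eq (n := ⟨𝔖.s i, P.subset (𝔖.s_mem i)⟩) (mem_cell_self _)).trans (𝔖.φ_s i)

theorem wG_eq_one_iff (g : G) : 𝔖.wG g = 1 ↔ g ∈ P.B := by
  rw [← 𝔖.φ.map_one, ← 𝔖.mem_cell_iff]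
  exact ⟨cell_one_subset, fun h => by simpa using mul_mem_cell h (mem_cell_self (1 : G))⟩

/-- The length function agrees with that of the Tits system. -/
theorem len_eq (n : ↥P.N) : len P (n : G) = M.toCoxeterSystem.length (𝔖.φ n) := by
  classical
  have hword : ∀ l : List ι, IsWord P (l.map 𝔖.s) := fun l x hx => by
    obtain ⟨i, -, rfl⟩ := List.mem_map.1 hx
    exact 𝔖.s_mem i
  have hval : ∀ l : List ι, 𝔖.φ ⟨(l.map 𝔖.s).prod, (hword l).prod_mem⟩ = M.toCoxeterSystem.wordProd l := by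
    intro l
    induction l with
    | nil => exact 𝔖.φ.map_one
    | cons i l ih =>
      rw [M.toCoxeterSystem.wordProd_cons, ← ih, show M.toCoxeterSystem.simple i = M.simple i from rfl,
        ← 𝔖.φ_s i, ← map_mul]
      rfl
  apply le_antisymm
  · obtain ⟨l, hl, hw⟩ := M.toCoxeterSystem.exists_isReduced (𝔖.φ n)
    refine le_of_le_of_eq (len_le_of_word (hword l) ((𝔖.φ_eq_iff ⟨_, (hword l).prod_mem⟩ n).1 ?_)) ?_
    · rw [hval, hw]
    · rw [List.length_map, hw, hl.eq]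
  · obtain ⟨l, hl, hlen, he⟩ := exists_len n.2
    have hpre : ∀ l : List G, IsWord P l → ∃ l' : List ι, l'.map 𝔖.s = l := by
      intro l
      induction l with
      | nil => exact fun _ => ⟨[], rfl⟩
      | cons x l ih =>
        intro h
        obtain ⟨i, hi⟩ := 𝔖.s_surj x (h x (by simp))
        obtain ⟨l', hl'⟩ := ih fun y hy => h y (by simp [hy])
        exact ⟨i :: l', by rw [List.map_cons, hi, hl']⟩
    obtain ⟨l', rfl⟩ := hpre l hl
    rw [← hlen, List.length_map, ← (𝔖.φ_eq_iff ⟨_, (hword l').prod_mem⟩ n).2 he, hval]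
    exact M.toCoxeterSystem.length_wordProd_le l'

/-- Bi-invariance. -/
def BiInv (P : Cfsg.BNPair G) (F : G → ℂ) : Prop :=
  (∀ b ∈ P.B, ∀ g, F (b * g) = F g) ∧ ∀ b ∈ P.B, ∀ g, F (g * b) = F g

/-- The bi-invariant function of a function on the Weyl group. -/
noncomputable def ext : (M.Group → ℂ) →ₗ[ℂ] (G → ℂ) := LinearMap.funLeft ℂ ℂ 𝔖.wG

theorem ext_apply (f : M.Group → ℂ) (g : G) : 𝔖.ext f g = f (𝔖.wG g) := rfl

theorem ext_injective : Function.Injective 𝔖.ext := fun f f' h => funext fun w => by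
  simpa [ext_apply, wG_nv] using congrFun h (𝔖.nv w : G)

theorem biInv_ext (f : M.Group → ℂ) : BiInv P (𝔖.ext f) :=
  ⟨fun b hb g => by rw [ext_apply, ext_apply, 𝔖.wG_mul_left hb],
    fun b hb g => by rw [ext_apply, ext_apply, 𝔖.wG_mul_right hb]⟩

theorem eq_ext {F : G → ℂ} (hF : BiInv P F) : F = 𝔖.ext (fun w => F (𝔖.nv w : G)) := by
  funext g
  rw [ext_apply]
  have h := (𝔖.mem_cell_iff g (𝔖.nv (𝔖.wG g))).2 (𝔖.φ_nv _).symm
  obtain ⟨b, hb, b', hb', e⟩ := mem_cell.1 h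
  conv_lhs => rw [e, hF.2 b' hb', hF.1 b hb]

open Classical in
/-- The standard basis. -/
noncomputable def T (w : M.Group) : G → ℂ := 𝔖.ext (Pi.single w 1)

open Classical in
theorem T_apply (w : M.Group) (g : G) : 𝔖.T w g = if 𝔖.wG g = w then 1 else 0 := by
  rw [T, ext_apply, Pi.single_apply]

theorem biInv_T (w : M.Group) : BiInv P (𝔖.T w) := by
  classical
  exact 𝔖.biInv_ext _

theorem conv_biInv {F F' : G → ℂ} (hF : BiInv P F) (hF' : BiInv P F') : BiInv P (conv P F F') := by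
  refine ⟨fun b hb g => ?_, fun b hb g => ?_⟩
  · simp only [conv]
    congr 1
    refine Fintype.sum_equiv (Equiv.mulLeft b⁻¹) _ _ fun x => ?_
    simp only [Equiv.coe_mulLeft]
    rw [hF.1 _ (inv_mem hb)]
    congr 2
    group
  · simp only [conv]
    congr 1
    refine Finset.sum_congr rfl fun x _ => ?_
    rw [← mul_assoc, hF'.2 b hb]

open Classical in
theorem conv_T_left (w : M.Group) (F : G → ℂ) (g : G) :
    conv P (𝔖.T w) F g =
      (Nat.card P.B : ℂ)⁻¹ * ∑ x ∈ Finset.univ.filter (fun x => 𝔖.wG x = w), F (x⁻¹ * g) := by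
  simp only [conv, T_apply, ite_mul, one_mul, zero_mul, ← Finset.sum_filter]

theorem conv_one_left {F : G → ℂ} (hF : ∀ b ∈ P.B, ∀ g, F (b * g) = F g) : conv P (𝔖.T 1) F = F := by
  classical
  funext g
  rw [conv_T_left, Finset.sum_congr rfl fun x hx => hF _ (inv_mem ((𝔖.wG_eq_one_iff x).1 (Finset.mem_filter.1 hx).2)) g,
    Finset.sum_const, nsmul_eq_mul, Finset.filter_congr (fun x _ => 𝔖.wG_eq_one_iff x), ← Fintype.card_subtype,
    ← Nat.card_eq_fintype_card, inv_mul_cancel_left₀ cB_ne_zero]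

theorem T_inv (w : M.Group) : (fun g => 𝔖.T w g⁻¹) = 𝔖.T w⁻¹ := by
  classical
  funext g
  rw [T_apply, T_apply, wG_inv]
  simp only [inv_eq_iff_eq_inv]

theorem conv_one_right {F : G → ℂ} (hF : ∀ b ∈ P.B, ∀ g, F (g * b) = F g) : conv P F (𝔖.T 1) = F := by
  have h : conv P (𝔖.T 1) (fun g => F g⁻¹) = fun g => F g⁻¹ :=
    𝔖.conv_one_left fun b hb g => by rw [mul_inv_rev, hF _ (inv_mem hb)]
  have e := conv_inv (P := P) F (𝔖.T 1)
  rw [T_inv, inv_one, h] at e
  funext g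
  have := congrFun e g⁻¹
  simpa using this

/-- The operator of a generator on coordinates. -/
noncomputable def lop (M : CoxeterMatrix ι) (t : ℂ) (i : ι) (f : M.Group → ℂ) (v : M.Group) : ℂ :=
  if M.toCoxeterSystem.length (M.simple i * v) < M.toCoxeterSystem.length v then
    f (M.simple i * v) + (t - 1) * f v
  else t * f (M.simple i * v)

/-- The operator of a generator on the right. -/
noncomputable def rop (M : CoxeterMatrix ι) (t : ℂ) (i : ι) (f : M.Group → ℂ) (v : M.Group) : ℂ :=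
  if M.toCoxeterSystem.length (v * M.simple i) < M.toCoxeterSystem.length v then
    f (v * M.simple i) + (t - 1) * f v
  else t * f (v * M.simple i)

theorem simple_inv (i : ι) : (M.simple i)⁻¹ = M.simple i := M.toCoxeterSystem.inv_simple i

open Classical in
theorem card_filter_s (i : ι) : (Finset.univ.filter fun x => 𝔖.wG x = M.simple i).card = q * Nat.card P.B := by
  rw [← 𝔖.card_cell i, ← Fintype.card_subtype, ← Nat.card_eq_fintype_card]
  refine Nat.card_congr (Equiv.subtypeEquivRight fun x => ?_)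
  rw [← 𝔖.φ_s i, ← 𝔖.mem_cell_iff]

theorem conv_s (i : ι) (f : M.Group → ℂ) :
    conv P (𝔖.T (M.simple i)) (𝔖.ext f) = 𝔖.ext (lop M (q : ℂ) i f) := by
  classical
  have hb := 𝔖.eq_ext (conv_biInv (𝔖.biInv_T (M.simple i)) (𝔖.biInv_ext f))
  rw [hb]
  congr 1
  funext v
  set n := 𝔖.nv v with hn
  have hs : 𝔖.s i ∈ P.S := 𝔖.s_mem i
  set sN : ↥P.N := ⟨𝔖.s i, P.subset hs⟩
  have hsn : 𝔖.φ (sN * n) = M.simple i * v := by rw [map_mul, 𝔖.φ_s, 𝔖.φ_nv]
  have hlen1 : len P (n : G) = M.toCoxeterSystem.length v := by rw [𝔖.len_eq, 𝔖.φ_nv]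
  have hlen2 : len P (𝔖.s i * (n : G)) = M.toCoxeterSystem.length (M.simple i * v) := by
    rw [← hsn, ← 𝔖.len_eq]; rfl
  rw [conv_T_left, lop]
  set S₀ := Finset.univ.filter fun x => 𝔖.wG x = M.simple i with hS₀
  have hS₀c : S₀.card = q * Nat.card P.B := 𝔖.card_filter_s i
  have hinvcell : ∀ x ∈ S₀, x⁻¹ ∈ cell P (𝔖.s i) := fun x hx => by
    refine (𝔖.mem_cell_iff _ sN).2 ?_
    rw [𝔖.wG_inv, (Finset.mem_filter.1 hx).2, simple_inv, 𝔖.φ_s]
  by_cases hd : M.toCoxeterSystem.length (M.simple i * v) < M.toCoxeterSystem.length v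
  · rw [if_pos hd]
    have hvals : ∀ x ∈ S₀, 𝔖.wG (x⁻¹ * (n : G)) = M.simple i * v ∨ 𝔖.wG (x⁻¹ * (n : G)) = v := by
      intro x hx
      obtain ⟨b₁, hb₁, b₂, hb₂, e⟩ := mem_cell.1 (hinvcell x hx)
      rw [e, show b₁ * 𝔖.s i * b₂ * (n : G) = b₁ * (𝔖.s i * b₂ * (n : G)) by group, 𝔖.wG_mul_left hb₁]
      rcases P.mul_mem_union (𝔖.s i) hs n n.2 b₂ hb₂ with h | h
      · exact Or.inl ((𝔖.wG_eq (n := sN * n) h).trans hsn)
      · exact Or.inr ((𝔖.wG_eq h).trans (𝔖.φ_nv v))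
    have hsplit : (S₀.filter fun x => 𝔖.wG (x⁻¹ * (n : G)) = M.simple i * v) =
        Finset.univ.filter fun x => (𝔖.s i)⁻¹ * x ∈ P.B := by
      ext x
      simp only [hS₀, Finset.mem_filter, Finset.mem_univ, true_and]
      have hs' : 𝔖.s i * ((𝔖.s i)⁻¹ * (n : G)) = (n : G) := by group
      have e0 : ((sN * n : ↥P.N) : G) = 𝔖.s i * (n : G) := rfl
      have hsi : 𝔖.wG ((𝔖.s i)⁻¹ * (n : G)) = M.simple i * v := by
        rw [show (𝔖.s i)⁻¹ * (n : G) = ((sN⁻¹ * n : ↥P.N) : G) from rfl, 𝔖.wG_eq (mem_cell_self _),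
          map_mul, map_inv, 𝔖.φ_s, 𝔖.φ_nv, simple_inv]
      constructor
      · rintro ⟨hx1, hx2⟩
        have hadd : len P (((sN : ↥P.N) : G) * ((sN * n : ↥P.N) : G)) = len P (sN : G) + len P ((sN * n : ↥P.N) : G) := by
          rw [← Subgroup.coe_mul, 𝔖.len_eq, e0, hlen2, map_mul, hsn, 𝔖.φ_s,
            show len P (sN : G) = 1 from len_s hs]
          rw [show M.simple i * (M.simple i * v) = v from M.toCoxeterSystem.simple_mul_simple_cancel_left i]
          rcases M.toCoxeterSystem.length_simple_mul v i with h | h <;>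
            simp only [show M.toCoxeterSystem.simple i = M.simple i from rfl] at h <;> omega
        have c1 : 𝔖.s i ∈ cell P (sN : G) := mem_cell_self _
        have c2 : x ∈ cell P (sN : G) := (𝔖.mem_cell_iff _ _).2 (by rw [hx1, 𝔖.φ_s])
        refine factor_unique (g₁ := 𝔖.s i) (g₂ := x) (h₁ := (𝔖.s i)⁻¹ * (n : G)) (h₂ := x⁻¹ * (n : G))
          sN.2 (sN * n).2 hadd c1 c2 ((𝔖.mem_cell_iff _ _).2 (by rw [hsi, hsn]))
          ((𝔖.mem_cell_iff _ _).2 (by rw [hx2, hsn])) ?_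
        rw [show (𝔖.s i * ((𝔖.s i)⁻¹ * (n : G)))⁻¹ * (x * (x⁻¹ * (n : G))) = 1 by group]
        exact one_mem _
      · intro hx
        refine ⟨?_, ?_⟩
        · rw [show x = 𝔖.s i * ((𝔖.s i)⁻¹ * x) by group, 𝔖.wG_mul_right hx, 𝔖.wG_s]
        · rw [show x⁻¹ * (n : G) = ((𝔖.s i)⁻¹ * x)⁻¹ * ((𝔖.s i)⁻¹ * (n : G)) by group,
            𝔖.wG_mul_left (inv_mem hx), hsi]
    have hcard : (S₀.filter fun x => 𝔖.wG (x⁻¹ * (n : G)) = M.simple i * v).card = Nat.card P.B := by
      rw [hsplit, ← Fintype.card_subtype, ← Nat.card_eq_fintype_card]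
      exact Nat.card_congr ((Equiv.mulLeft (𝔖.s i)⁻¹).subtypeEquiv fun x => Iff.rfl)
    rw [← Finset.sum_filter_add_sum_filter_not S₀ (fun x => 𝔖.wG (x⁻¹ * (n : G)) = M.simple i * v),
      Finset.sum_congr rfl (fun x hx => show 𝔖.ext f (x⁻¹ * (n : G)) = f (M.simple i * v) by
        rw [ext_apply, (Finset.mem_filter.1 hx).2]), Finset.sum_const, hcard,
      Finset.sum_congr rfl (fun x hx => show 𝔖.ext f (x⁻¹ * (n : G)) = f v by
        rw [ext_apply, (hvals x (Finset.mem_filter.1 hx).1).resolve_left (Finset.mem_filter.1 hx).2]),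
      Finset.sum_const]
    have hrest : ((S₀.filter fun x => ¬ 𝔖.wG (x⁻¹ * (n : G)) = M.simple i * v).card : ℂ) =
        ((q : ℂ) - 1) * Nat.card P.B := by
      have := Finset.card_filter_add_card_filter_not (s := S₀) (fun x => 𝔖.wG (x⁻¹ * (n : G)) = M.simple i * v)
      rw [hcard, hS₀c] at this
      have hc := congrArg (fun k : ℕ => (k : ℂ)) this
      push_cast at hc
      linear_combination hc
    rw [nsmul_eq_mul, nsmul_eq_mul, hrest]
    field_simp [cB_ne_zero (P := P)]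
  · rw [if_neg hd]
    have hle : len P (n : G) ≤ len P (𝔖.s i * (n : G)) := by rw [hlen1, hlen2]; omega
    have hvals : ∀ x ∈ S₀, 𝔖.wG (x⁻¹ * (n : G)) = M.simple i * v := by
      intro x hx
      obtain ⟨b₁, hb₁, b₂, hb₂, e⟩ := mem_cell.1 (hinvcell x hx)
      rw [e, show b₁ * 𝔖.s i * b₂ * (n : G) = b₁ * (𝔖.s i * b₂ * (n : G)) by group, 𝔖.wG_mul_left hb₁]
      exact (𝔖.wG_eq (n := sN * n) (step_up hs n.2 hle hb₂)).trans hsn
    rw [Finset.sum_congr rfl (fun x hx => show 𝔖.ext f (x⁻¹ * (n : G)) = f (M.simple i * v) by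
      rw [ext_apply, hvals x hx]), Finset.sum_const, hS₀c, nsmul_eq_mul]
    push_cast
    field_simp [cB_ne_zero (P := P)]

theorem conv_s_right (i : ι) (f : M.Group → ℂ) :
    conv P (𝔖.ext f) (𝔖.T (M.simple i)) = 𝔖.ext (rop M (q : ℂ) i f) := by
  have hext : ∀ f : M.Group → ℂ, (fun g => 𝔖.ext f g⁻¹) = 𝔖.ext (fun w => f w⁻¹) := fun f => funext fun g => by
    rw [ext_apply, ext_apply, wG_inv]
  have e := conv_inv (P := P) (𝔖.ext f) (𝔖.T (M.simple i))
  rw [T_inv, simple_inv, hext, conv_s] at e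
  funext g
  have h := congrFun e g⁻¹
  simp only [inv_inv] at h
  rw [h, ext_apply, ext_apply, wG_inv]
  have hl : ∀ x : M.Group, M.toCoxeterSystem.length (M.simple i * x⁻¹) = M.toCoxeterSystem.length (x * M.simple i) :=
    fun x => by
      rw [← M.toCoxeterSystem.length_inv (x * M.simple i), mul_inv_rev, simple_inv]
  simp only [lop, rop, hl, M.toCoxeterSystem.length_inv, mul_inv_rev, inv_inv, simple_inv]

theorem T_mul_up (i : ι) (v : M.Group)
    (h : M.toCoxeterSystem.length v < M.toCoxeterSystem.length (M.simple i * v)) :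
    conv P (𝔖.T (M.simple i)) (𝔖.T v) = 𝔖.T (M.simple i * v) := by
  classical
  rw [show 𝔖.T v = 𝔖.ext (Pi.single v 1) from rfl, conv_s, T]
  congr 1
  funext y
  have hcancel : M.simple i * (M.simple i * v) = v := M.toCoxeterSystem.simple_mul_simple_cancel_left i
  rcases eq_or_ne y (M.simple i * v) with rfl | hy
  · rw [lop, hcancel, if_pos h]
    simp [show M.simple i * v ≠ v from fun e => by rw [e] at h; exact lt_irrefl _ h]
  · have hy' : M.simple i * y ≠ v := fun e => hy (by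
      rw [← e]; exact (M.toCoxeterSystem.simple_mul_simple_cancel_left i).symm)
    rcases eq_or_ne y v with rfl | hyv
    · rw [lop, if_neg (by omega)]
      simp [hy', hy]
    · simp [lop, hy', hy, hyv]

theorem sum_conv (F F' : G → ℂ) : ∑ g, conv P F F' g = (Nat.card P.B : ℂ)⁻¹ * (∑ g, F g) * ∑ g, F' g := by
  simp only [conv]
  rw [← Finset.mul_sum, mul_assoc, Finset.sum_comm, Finset.sum_mul]
  congr 1
  refine Finset.sum_congr rfl fun x _ => ?_
  rw [← Finset.mul_sum]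
  congr 1
  exact Fintype.sum_equiv (Equiv.mulLeft x⁻¹) _ _ fun g => rfl

theorem sum_T : ∀ (k : ℕ) (w : M.Group), M.toCoxeterSystem.length w = k →
    ∑ g, 𝔖.T w g = (q : ℂ) ^ k * Nat.card P.B := by
  classical
  intro k
  induction k with
  | zero =>
    intro w hw
    rw [M.toCoxeterSystem.length_eq_zero_iff] at hw
    subst hw
    simp only [T_apply, Finset.sum_boole, pow_zero, one_mul, Nat.cast_inj]
    rw [Finset.filter_congr (fun x _ => 𝔖.wG_eq_one_iff x), ← Fintype.card_subtype, ← Nat.card_eq_fintype_card]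
  | succ k ih =>
    intro w hw
    obtain ⟨i, hi⟩ := M.toCoxeterSystem.exists_leftDescent_of_ne_one (w := w) (fun e => by
      rw [e, M.toCoxeterSystem.length_one] at hw; omega)
    have hlen := M.toCoxeterSystem.isLeftDescent_iff.1 hi
    rw [show M.toCoxeterSystem.simple i = M.simple i from rfl] at hlen
    set v := M.simple i * w with hv
    have hcancel : M.simple i * v = w := M.toCoxeterSystem.simple_mul_simple_cancel_left i
    rw [← hcancel, ← 𝔖.T_mul_up i v (by rw [hcancel]; omega), sum_conv, ih v (by omega)]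
    have e : ∑ g, 𝔖.T (M.simple i) g = (q : ℂ) * Nat.card P.B := by
      simp only [T_apply, Finset.sum_boole]
      rw [𝔖.card_filter_s i, Nat.cast_mul]
    rw [e, pow_succ]
    field_simp [cB_ne_zero (P := P)]

end Sys

end CfsgLib.Hecke
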