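import Mathlib
import Cfsg.Agent.Lib.Hecke.Conv

/-!
The operators of the generic Hecke algebra as matrices of polynomials.
-/

set_option linter.unusedSectionVars false

namespace CfsgLib.Hecke

open Polynomial Matrix

/-- The rank of a specialisation is at most the generic rank. -/
theorem rank_eval_le {a b : Type*} [Fintype a] [DecidableEq a] [Fintype b] [DecidableEq b] (P : Matrix a b ℂ[X])
    (t : ℂ) : (P.map (Polynomial.eval t)).rank ≤ (P.map (algebraMap ℂ[X] (RatFunc ℂ))).rank := by
  set E := P.map (Polynomial.eval t) with hE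
  set r := E.rank with hr
  let bs := Module.finBasis ℂ (LinearMap.range E.mulVecLin)
  choose x hx using fun j => LinearMap.mem_range.1 (bs j).2
  let X₀ : Matrix b (Fin r) ℂ := Matrix.of fun i j => x j i
  have hcol : ∀ v : Fin r → ℂ, (E * X₀).mulVecLin v = ∑ j, v j • ((bs j : LinearMap.range E.mulVecLin) : a → ℂ) := by
    intro v
    funext i
    rw [Matrix.mulVecLin_apply, Finset.sum_apply]
    simp only [Matrix.mulVec, dotProduct, Matrix.mul_apply, X₀, Matrix.of_apply, Pi.smul_apply, smul_eq_mul]
    refine Finset.sum_congr rfl fun j _ => ?_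
    rw [mul_comm, ← hx j]
    rfl
  have hinj : Function.Injective (E * X₀).mulVecLin := by
    rw [← LinearMap.ker_eq_bot, LinearMap.ker_eq_bot']
    intro v hv
    rw [hcol] at hv
    have : ∑ j, v j • bs j = 0 := Subtype.ext (by simpa using hv)
    funext j
    exact Fintype.linearIndependent_iff.1 bs.linearIndependent v this j
  obtain ⟨g, hg⟩ := LinearMap.exists_leftInverse_of_injective _ (LinearMap.ker_eq_bot.2 hinj)
  set Y := LinearMap.toMatrix' g with hY
  have hYE : Y * (E * X₀) = 1 := by
    apply Matrix.toLin'.injective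
    rw [Matrix.toLin'_mul, Matrix.toLin'_one, hY, Matrix.toLin'_toMatrix']
    exact hg
  set Q := Y.map Polynomial.C * P * X₀.map Polynomial.C with hQ
  have hev : (Polynomial.evalRingHom t).mapMatrix Q = 1 := by
    rw [RingHom.mapMatrix_apply, hQ, Matrix.map_mul, Matrix.map_mul, Matrix.map_map, Matrix.map_map,
      Polynomial.coe_evalRingHom]
    have e : ∀ {c d : Type} (M : Matrix c d ℂ), True := fun _ => trivial
    rw [show (Polynomial.eval t ∘ Polynomial.C : ℂ → ℂ) = id from funext fun z => Polynomial.eval_C,
      Matrix.map_id, Matrix.map_id, ← hE, Matrix.mul_assoc, hYE]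
  have hdet : Q.det ≠ 0 := fun h => by
    have := congrArg Matrix.det hev
    rw [← RingHom.map_det, h, map_zero, Matrix.det_one] at this
    exact zero_ne_one this
  set ι := algebraMap ℂ[X] (RatFunc ℂ)
  have hu : IsUnit (Q.map ι) := by
    rw [Matrix.isUnit_iff_isUnit_det, isUnit_iff_ne_zero, show Q.map ι = ι.mapMatrix Q from rfl, ← RingHom.map_det]
    exact (map_ne_zero_iff _ (RatFunc.algebraMap_injective ℂ)).2 hdet
  have hrk := Matrix.rank_of_isUnit _ hu
  rw [hQ, Matrix.map_mul, Matrix.map_mul, Fintype.card_fin] at hrk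
  rw [← hrk]
  exact (Matrix.rank_mul_le_left _ _).trans (Matrix.rank_mul_le_right _ _)

/-- A complex with generically vanishing composite, exact at two points, has the same rank at both. -/
theorem rank_eq_of_exact {a b c : Type*} [Fintype a] [DecidableEq a] [Fintype b] [DecidableEq b] [Fintype c]
    [DecidableEq c] (A : Matrix b a ℂ[X]) (B : Matrix c b ℂ[X]) (h0 : B * A = 0) (s t : ℂ)
    (hs : LinearMap.ker (B.map (Polynomial.eval s)).mulVecLin ≤ LinearMap.range (A.map (Polynomial.eval s)).mulVecLin)
    (ht : LinearMap.ker (B.map (Polynomial.eval t)).mulVecLin ≤ LinearMap.range (A.map (Polynomial.eval t)).mulVecLin) :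
    (A.map (Polynomial.eval s)).rank = (A.map (Polynomial.eval t)).rank := by
  have hle : (A.map (algebraMap ℂ[X] (RatFunc ℂ))).rank + (B.map (algebraMap ℂ[X] (RatFunc ℂ))).rank ≤ Fintype.card b := by
    have h : LinearMap.range (A.map (algebraMap ℂ[X] (RatFunc ℂ))).mulVecLin ≤ LinearMap.ker (B.map (algebraMap ℂ[X] (RatFunc ℂ))).mulVecLin := by
      rintro _ ⟨v, rfl⟩
      rw [LinearMap.mem_ker, Matrix.mulVecLin_apply, Matrix.mulVecLin_apply, Matrix.mulVec_mulVec, ← Matrix.map_mul, h0]
      simp
    have h1 := Submodule.finrank_mono h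
    have h2 := (B.map (algebraMap ℂ[X] (RatFunc ℂ))).mulVecLin.finrank_range_add_finrank_ker
    rw [Module.finrank_fintype_fun_eq_card] at h2
    simp only [Matrix.rank] at *
    omega
  have hge : ∀ u : ℂ, LinearMap.ker (B.map (Polynomial.eval u)).mulVecLin ≤
      LinearMap.range (A.map (Polynomial.eval u)).mulVecLin →
      Fintype.card b ≤ (A.map (Polynomial.eval u)).rank + (B.map (Polynomial.eval u)).rank := by
    intro u hu
    have h1 := Submodule.finrank_mono hu
    have h2 := (B.map (Polynomial.eval u)).mulVecLin.finrank_range_add_finrank_ker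
    rw [Module.finrank_fintype_fun_eq_card] at h2
    simp only [Matrix.rank] at *
    omega
  have := hge s hs
  have := hge t ht
  have := rank_eval_le A s
  have := rank_eval_le A t
  have := rank_eval_le B s
  have := rank_eval_le B t
  change (A.map (Polynomial.eval s)).rank = _
  omega

variable {ι : Type*} (M : CoxeterMatrix ι)

open Classical in
/-- A generator acting on the left. -/
noncomputable def Lp (i : ι) : Matrix M.Group M.Group ℂ[X] := Matrix.of fun v u =>
  if M.toCoxeterSystem.length (M.simple i * v) < M.toCoxeterSystem.length v then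
    (if u = M.simple i * v then 1 else 0) + (if u = v then X - 1 else 0)
  else if u = M.simple i * v then X else 0

open Classical in
/-- A generator acting on the right. -/
noncomputable def Rp (i : ι) : Matrix M.Group M.Group ℂ[X] := Matrix.of fun v u =>
  if M.toCoxeterSystem.length (v * M.simple i) < M.toCoxeterSystem.length v then
    (if u = v * M.simple i then 1 else 0) + (if u = v then X - 1 else 0)
  else if u = v * M.simple i then X else 0

/-- A chosen reduced word. -/
noncomputable def word (w : M.Group) : List ι := (M.toCoxeterSystem.exists_isReduced w).choose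

theorem word_spec (w : M.Group) :
    M.toCoxeterSystem.IsReduced (word M w) ∧ w = M.toCoxeterSystem.wordProd (word M w) :=
  (M.toCoxeterSystem.exists_isReduced w).choose_spec

variable [Fintype M.Group] [DecidableEq M.Group]

/-- An upper bound of the length. -/
noncomputable def topLen : ℕ := Finset.univ.sup fun w : M.Group => M.toCoxeterSystem.length w

theorem length_le_topLen (w : M.Group) : M.toCoxeterSystem.length w ≤ topLen M :=
  Finset.le_sup (f := fun w : M.Group => M.toCoxeterSystem.length w) (Finset.mem_univ w)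

/-- The averaging operator. -/
noncomputable def Ap : Matrix M.Group M.Group ℂ[X] :=
  ∑ w : M.Group, ((X : ℂ[X]) ^ (topLen M - M.toCoxeterSystem.length w)) •
    (((word M w).map (Lp M)).prod * ((word M w).map (Rp M)).prod)

/-- The commutators with the generators. -/
noncomputable def Bp : Matrix (ι × M.Group) M.Group ℂ[X] :=
  Matrix.of fun p u => Lp M p.1 p.2 u - Rp M p.1 p.2 u

open Sys (lop rop)

theorem Lp_mulVec (t : ℂ) (i : ι) (f : M.Group → ℂ) :
    (Lp M i).map (Polynomial.eval t) *ᵥ f = lop M t i f := by
  classical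
  funext v
  simp only [Matrix.mulVec, dotProduct, Matrix.map_apply, Lp, Matrix.of_apply, lop]
  split_ifs with h <;> simp [apply_ite (Polynomial.eval t), add_mul, ite_mul, Finset.sum_add_distrib]

theorem Rp_mulVec (t : ℂ) (i : ι) (f : M.Group → ℂ) :
    (Rp M i).map (Polynomial.eval t) *ᵥ f = rop M t i f := by
  classical
  funext v
  simp only [Matrix.mulVec, dotProduct, Matrix.map_apply, Rp, Matrix.of_apply, rop]
  split_ifs with h <;> simp [apply_ite (Polynomial.eval t), add_mul, ite_mul, Finset.sum_add_distrib]

theorem Bp_mulVec (t : ℂ) (f : M.Group → ℂ) (p : ι × M.Group) :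
    ((Bp M).map (Polynomial.eval t) *ᵥ f) p = lop M t p.1 f p.2 - rop M t p.1 f p.2 := by
  rw [← Lp_mulVec, ← Rp_mulVec]
  simp [Matrix.mulVec, dotProduct, Bp, sub_mul, Finset.sum_sub_distrib]

theorem word_mulVec_nil (t : ℂ) (S : ι → Matrix M.Group M.Group ℂ[X]) (f : M.Group → ℂ) :
    (([] : List ι).map S).prod.map (Polynomial.eval t) *ᵥ f = f := by
  rw [List.map_nil, List.prod_nil, Matrix.map_one (Polynomial.eval t) Polynomial.eval_zero Polynomial.eval_one,
    Matrix.one_mulVec]

theorem word_mulVec_cons (t : ℂ) (S : ι → Matrix M.Group M.Group ℂ[X]) (i : ι) (l : List ι) (f : M.Group → ℂ) :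
    ((i :: l).map S).prod.map (Polynomial.eval t) *ᵥ f =
      (S i).map (Polynomial.eval t) *ᵥ ((l.map S).prod.map (Polynomial.eval t) *ᵥ f) := by
  rw [List.map_cons, List.prod_cons, ← Polynomial.coe_evalRingHom, Matrix.map_mul, Matrix.mulVec_mulVec]

theorem Ap_mulVec (t : ℂ) (f : M.Group → ℂ) :
    (Ap M).map (Polynomial.eval t) *ᵥ f = ∑ w : M.Group, t ^ (topLen M - M.toCoxeterSystem.length w) •
      (((word M w).map (Lp M)).prod.map (Polynomial.eval t) *ᵥ
        (((word M w).map (Rp M)).prod.map (Polynomial.eval t) *ᵥ f)) := by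
  have e : (Ap M).map (Polynomial.eval t) = (Polynomial.evalRingHom t).mapMatrix (Ap M) := rfl
  rw [e, Ap, map_sum, Matrix.sum_mulVec]
  refine Finset.sum_congr rfl fun w _ => ?_
  rw [RingHom.mapMatrix_apply, Matrix.map_smul' _ _ _ (fun a b => map_mul _ a b), Matrix.map_mul,
    Matrix.smul_mulVec, ← Matrix.mulVec_mulVec, Polynomial.coe_evalRingHom, Polynomial.eval_pow, Polynomial.eval_X]

/-- The operators at `t = 1`. -/
theorem Ap_one_mulVec (f : M.Group → ℂ) (v : M.Group) :
    ((Ap M).map (Polynomial.eval 1) *ᵥ f) v = ∑ w : M.Group, f (w⁻¹ * v * w) := by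
  have hL : ∀ (l : List ι) (f : M.Group → ℂ) (v : M.Group), ((l.map (Lp M)).prod.map (Polynomial.eval 1) *ᵥ f) v =
      f ((M.toCoxeterSystem.wordProd l)⁻¹ * v) := by
    intro l
    induction l with
    | nil => intro f v; rw [word_mulVec_nil]; simp
    | cons i l ih =>
      intro f v
      rw [word_mulVec_cons, Lp_mulVec, lop, M.toCoxeterSystem.wordProd_cons, _root_.mul_inv_rev,
        M.toCoxeterSystem.inv_simple, show M.toCoxeterSystem.simple i = M.simple i from rfl]
      split_ifs <;> simp [ih, mul_assoc]
  have hR : ∀ (l : List ι) (f : M.Group → ℂ) (v : M.Group), ((l.map (Rp M)).prod.map (Polynomial.eval 1) *ᵥ f) v =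
      f (v * M.toCoxeterSystem.wordProd l) := by
    intro l
    induction l with
    | nil => intro f v; rw [word_mulVec_nil]; simp
    | cons i l ih =>
      intro f v
      rw [word_mulVec_cons, Rp_mulVec, rop, M.toCoxeterSystem.wordProd_cons,
        show M.toCoxeterSystem.simple i = M.simple i from rfl]
      split_ifs <;> simp [ih, mul_assoc]
  rw [Ap_mulVec, Finset.sum_apply]
  refine Finset.sum_congr rfl fun w _ => ?_
  rw [Pi.smul_apply, one_pow, one_smul, hL, hR, ← (word_spec M w).2]

/-- Exactness at `t = 1`, and the rank there. -/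
theorem exact_one : LinearMap.ker ((Bp M).map (Polynomial.eval (1 : ℂ))).mulVecLin ≤
      LinearMap.range ((Ap M).map (Polynomial.eval (1 : ℂ))).mulVecLin ∧
    ((Ap M).map (Polynomial.eval (1 : ℂ))).rank = Nat.card (ConjClasses M.Group) := by
  classical
  have hker : ∀ f : M.Group → ℂ, (Bp M).map (Polynomial.eval (1 : ℂ)) *ᵥ f = 0 → ∀ v w, f (w⁻¹ * v * w) = f v := by
    intro f hf v w
    have hstep : ∀ i v, f (M.simple i * v) = f (v * M.simple i) := fun i v => by
      have := congrFun hf (i, v)
      rw [Bp_mulVec, Pi.zero_apply, lop, rop, sub_eq_zero] at this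
      split_ifs at this <;> simpa using this
    revert v
    induction w using M.toCoxeterSystem.simple_induction_left with
    | one => intro v; simp
    | mul_simple_left w i ih =>
      intro v
      rw [show M.toCoxeterSystem.simple i = M.simple i from rfl, _root_.mul_inv_rev,
        show w⁻¹ * (M.simple i)⁻¹ * v * (M.simple i * w) = w⁻¹ * ((M.simple i)⁻¹ * v * M.simple i) * w by group,
        ih, show (M.simple i)⁻¹ = M.simple i from M.toCoxeterSystem.inv_simple i, mul_assoc, hstep, mul_assoc,
        show M.simple i * M.simple i = 1 from M.toCoxeterSystem.simple_mul_simple_self i, mul_one]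
  have hcard : (Fintype.card M.Group : ℂ) ≠ 0 := Nat.cast_ne_zero.2 Fintype.card_ne_zero
  refine ⟨fun f hf => ?_, ?_⟩
  · refine ⟨(Fintype.card M.Group : ℂ)⁻¹ • f, funext fun v => ?_⟩
    rw [Matrix.mulVecLin_apply, Ap_one_mulVec]
    simp only [Pi.smul_apply, smul_eq_mul]
    rw [← Finset.mul_sum, Finset.sum_congr rfl (fun w _ => hker f (by simpa using hf) v w), Finset.sum_const,
      Finset.card_univ, nsmul_eq_mul, inv_mul_cancel_left₀ hcard]
  · set Φ := LinearMap.funLeft ℂ ℂ (ConjClasses.mk : M.Group → ConjClasses M.Group)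
    have hrange : LinearMap.range ((Ap M).map (Polynomial.eval (1 : ℂ))).mulVecLin = LinearMap.range Φ := by
      apply le_antisymm
      · rintro _ ⟨f, rfl⟩
        have hclass : ∀ a b : M.Group, IsConj a b → ((Ap M).map (Polynomial.eval 1) *ᵥ f) a =
            ((Ap M).map (Polynomial.eval 1) *ᵥ f) b := by
          intro a b h
          obtain ⟨c, rfl⟩ := isConj_iff.1 h
          rw [Ap_one_mulVec, Ap_one_mulVec]
          exact Fintype.sum_equiv (Equiv.mulLeft c) _ _ fun w => congrArg f (by simp [mul_assoc])
        refine ⟨fun C => ((Ap M).map (Polynomial.eval 1) *ᵥ f) C.out, funext fun v => ?_⟩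
        refine hclass _ _ (ConjClasses.mk_eq_mk_iff_isConj.1 (Quotient.out_eq _))
      · rintro _ ⟨h, rfl⟩
        refine ⟨(Fintype.card M.Group : ℂ)⁻¹ • Φ h, funext fun v => ?_⟩
        rw [Matrix.mulVecLin_apply, Ap_one_mulVec]
        simp only [Pi.smul_apply, smul_eq_mul]
        rw [← Finset.mul_sum, Finset.sum_congr rfl (fun w _ => show Φ h (w⁻¹ * v * w) = Φ h v from
          congrArg h (ConjClasses.mk_eq_mk_iff_isConj.2 (isConj_iff.2 ⟨w, by group⟩))), Finset.sum_const,
          Finset.card_univ, nsmul_eq_mul, inv_mul_cancel_left₀ hcard]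
    haveI : Fintype (ConjClasses M.Group) := Fintype.ofFinite _
    rw [Matrix.rank, hrange, LinearMap.finrank_range_of_inj
      (LinearMap.funLeft_injective_of_surjective ℂ ℂ _ ConjClasses.mk_surjective),
      Module.finrank_fintype_fun_eq_card, Nat.card_eq_fintype_card]

end CfsgLib.Hecke
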