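import Mathlib
import Cfsg.Prelude.Def_ParabolicCharacters
import Cfsg.Agent.Lib.Hecke.Poly
import Cfsg.Agent.Lib.Char.PermChar
import Cfsg.Agent.Lib.Char.ClassAlgebra

/-!
The centre of the Hecke algebra and the constituents of the permutation character on the cosets of `B`.
-/

set_option linter.unusedSectionVars false

namespace CfsgLib.Hecke

open Matrix Sys CfsgLib.Chev.BN
open scoped ComplexConjugate Classical

variable {G : Type*} [Group G] [Fintype G] {P : Cfsg.BNPair G} {ι : Type*} {M : CoxeterMatrix ι} {q : ℕ}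

namespace Sys

variable (𝔖 : Sys P M q)

/-- The class function of a function. -/
noncomputable def cls : (G → ℂ) →ₗ[ℂ] (G → ℂ) where
  toFun F g := ∑ h, F (h⁻¹ * g * h)
  map_add' F F' := funext fun g => by simp [Finset.sum_add_distrib]
  map_smul' c F := funext fun g => by simp [Finset.mul_sum]

theorem cls_class (F : G → ℂ) (g h : G) : cls F (h * g * h⁻¹) = cls F g := by
  simp only [cls, LinearMap.coe_mk, AddHom.coe_mk]
  exact Fintype.sum_equiv (Equiv.mulLeft h⁻¹) _ _ fun x => congrArg F (by simp [mul_assoc])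

theorem biInv_class {z : G → ℂ} (hz : ∀ g h : G, z (h * g * h⁻¹) = z g) : BiInv P (conv P (𝔖.T 1) z) := by
  refine ⟨fun b hb g => ?_, fun b hb g => ?_⟩
  · simp only [conv]
    congr 1
    refine Fintype.sum_equiv (Equiv.mulLeft b⁻¹) _ _ fun x => ?_
    simp only [Equiv.coe_mulLeft]
    rw [(𝔖.biInv_T 1).1 _ (inv_mem hb)]
    congr 2
    group
  · rw [← conv_class hz]
    simp only [conv]
    congr 1
    refine Finset.sum_congr rfl fun x _ => ?_
    rw [← mul_assoc, (𝔖.biInv_T 1).2 b hb]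

theorem conv_class_central {z K : G → ℂ} (hz : ∀ g h : G, z (h * g * h⁻¹) = z g) (hK : BiInv P K) :
    conv P (conv P (𝔖.T 1) z) K = conv P K (conv P (𝔖.T 1) z) := by
  rw [conv_assoc, conv_class hz K, ← conv_assoc, 𝔖.conv_one_left hK.1, ← conv_assoc K, 𝔖.conv_one_right hK.2]

/-- Averaging a right-invariant function over a cell. -/
theorem sum_cell {F : G → ℂ} (hF : ∀ b ∈ P.B, ∀ g, F (g * b) = F g) (w : M.Group) :
    (Nat.card P.B : ℂ) * ∑ x ∈ Finset.univ.filter (fun x => 𝔖.wG x = w), F x =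
      ((Finset.univ.filter fun x => 𝔖.wG x = w).card : ℂ) *
        ∑ b ∈ Finset.univ.filter (fun b => b ∈ P.B), F (b * (𝔖.nv w : G)) := by
  set C := Finset.univ.filter fun x => 𝔖.wG x = w with hC
  set SB := Finset.univ.filter fun b => b ∈ P.B with hSB
  have hSBc : (SB.card : ℂ) = Nat.card P.B := by
    rw [hSB, ← Fintype.card_subtype, ← Nat.card_eq_fintype_card]
  have e1 : ∀ b ∈ SB, ∑ x ∈ C, F x = ∑ x ∈ C, F (b * x) := by
    intro b hb
    have hb' := (Finset.mem_filter.1 hb).2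
    refine Finset.sum_equiv (Equiv.mulLeft b⁻¹) (fun x => ?_) (fun x _ => ?_)
    · simp [hC, 𝔖.wG_mul_left (inv_mem hb')]
    · simp
  have e2 : ∀ x ∈ C, ∑ b ∈ SB, F (b * x) = ∑ b ∈ SB, F (b * (𝔖.nv w : G)) := by
    intro x hx
    have hx' : x ∈ cell P (𝔖.nv w : G) := (𝔖.mem_cell_iff _ _).2 (by rw [(Finset.mem_filter.1 hx).2, φ_nv])
    obtain ⟨b₁, hb₁, b₂, hb₂, rfl⟩ := mem_cell.1 hx'
    refine Finset.sum_equiv (Equiv.mulRight b₁) (fun b => ?_) (fun b _ => ?_)
    · simp [hSB, Subgroup.mul_mem_cancel_right _ hb₁]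
    · rw [Equiv.coe_mulRight, ← mul_assoc, ← mul_assoc, hF _ hb₂]
  calc (Nat.card P.B : ℂ) * ∑ x ∈ C, F x = ∑ b ∈ SB, ∑ x ∈ C, F (b * x) := by
        rw [← hSBc, ← nsmul_eq_mul, ← Finset.sum_const]; exact Finset.sum_congr rfl e1
    _ = ∑ x ∈ C, ∑ b ∈ SB, F (b * x) := Finset.sum_comm
    _ = _ := by rw [Finset.sum_congr rfl e2, Finset.sum_const, nsmul_eq_mul]

theorem card_cell_eq (w : M.Group) :
    ((Finset.univ.filter fun x => 𝔖.wG x = w).card : ℂ) =
      (q : ℂ) ^ M.toCoxeterSystem.length w * Nat.card P.B := by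
  rw [← 𝔖.sum_T _ w rfl]
  simp [T_apply, Finset.sum_boole]

theorem lop_conv_word : ∀ (l : List ι) (f : M.Group → ℂ) [Fintype M.Group],
    M.toCoxeterSystem.IsReduced l →
    conv P (𝔖.T (M.toCoxeterSystem.wordProd l)) (𝔖.ext f) =
      𝔖.ext ((l.map (Lp M)).prod.map (Polynomial.eval (q : ℂ)) *ᵥ f) := by
  intro l
  induction l with
  | nil => intro f _ _; rw [word_mulVec_nil, M.toCoxeterSystem.wordProd_nil, 𝔖.conv_one_left (𝔖.biInv_ext f).1]
  | cons i l ih =>
    intro f _ hl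
    have hl' : M.toCoxeterSystem.IsReduced l := hl.drop 1
    have hup : M.toCoxeterSystem.length (M.toCoxeterSystem.wordProd l) <
        M.toCoxeterSystem.length (M.simple i * M.toCoxeterSystem.wordProd l) := by
      have h := hl.eq
      rw [M.toCoxeterSystem.wordProd_cons, List.length_cons] at h
      rw [hl'.eq, show M.simple i = M.toCoxeterSystem.simple i from rfl, h]
      omega
    rw [M.toCoxeterSystem.wordProd_cons, show M.toCoxeterSystem.simple i = M.simple i from rfl,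
      ← 𝔖.T_mul_up i _ hup, conv_assoc, ih f hl', 𝔖.conv_s, word_mulVec_cons, Lp_mulVec]

theorem rop_conv_word : ∀ (l : List ι) (f : M.Group → ℂ) [Fintype M.Group],
    M.toCoxeterSystem.IsReduced l →
    conv P (𝔖.ext f) (𝔖.T (M.toCoxeterSystem.wordProd l)⁻¹) =
      𝔖.ext ((l.map (Rp M)).prod.map (Polynomial.eval (q : ℂ)) *ᵥ f) := by
  intro l
  induction l with
  | nil => intro f _ _; rw [word_mulVec_nil, M.toCoxeterSystem.wordProd_nil, inv_one, 𝔖.conv_one_right (𝔖.biInv_ext f).2]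
  | cons i l ih =>
    intro f _ hl
    have hl' : M.toCoxeterSystem.IsReduced l := hl.drop 1
    have hup : M.toCoxeterSystem.length (M.toCoxeterSystem.wordProd l) <
        M.toCoxeterSystem.length (M.simple i * M.toCoxeterSystem.wordProd l) := by
      have h := hl.eq
      rw [M.toCoxeterSystem.wordProd_cons, List.length_cons] at h
      rw [hl'.eq, show M.simple i = M.toCoxeterSystem.simple i from rfl, h]
      omega
    set v := M.toCoxeterSystem.wordProd l
    have e : 𝔖.T (M.simple i * v)⁻¹ = conv P (𝔖.T v⁻¹) (𝔖.T (M.simple i)) := by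
      rw [← T_inv, ← 𝔖.T_mul_up i v hup, conv_inv, T_inv, T_inv, simple_inv]
    rw [M.toCoxeterSystem.wordProd_cons, show M.toCoxeterSystem.simple i = M.simple i from rfl, e,
      ← conv_assoc, ih f hl', 𝔖.conv_s_right, word_mulVec_cons, Rp_mulVec]

variable [Fintype M.Group]

/-- The averaging map on the Hecke algebra. -/
noncomputable def gam (F : G → ℂ) : G → ℂ :=
  ∑ w : M.Group, ((q : ℂ) ^ M.toCoxeterSystem.length w)⁻¹ • conv P (𝔖.T w) (conv P F (𝔖.T w⁻¹))

theorem ext_Ap (hq : 0 < q) (f : M.Group → ℂ) :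
    𝔖.ext ((Ap M).map (Polynomial.eval (q : ℂ)) *ᵥ f) = (q : ℂ) ^ topLen M • 𝔖.gam (𝔖.ext f) := by
  rw [Ap_mulVec, map_sum, gam, Finset.smul_sum]
  refine Finset.sum_congr rfl fun w _ => ?_
  have hw := word_spec M w
  have e1 := 𝔖.rop_conv_word (word M w) f hw.1
  have e2 := 𝔖.lop_conv_word (word M w) (((word M w).map (Rp M)).prod.map (Polynomial.eval (q : ℂ)) *ᵥ f) hw.1
  rw [← hw.2] at e1 e2
  rw [map_smul, ← e2, ← e1, smul_smul, pow_sub₀ _ (Nat.cast_ne_zero.2 hq.ne') (length_le_topLen M w)]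

theorem gam_eq_avg (hq : 0 < q) {F : G → ℂ} (hF : BiInv P F) :
    𝔖.gam F = (Nat.card P.B : ℂ)⁻¹ • conv P (𝔖.T 1) (cls F) := by
  classical
  funext g
  set SB := Finset.univ.filter fun b => b ∈ P.B with hSB
  set C : M.Group → Finset G := fun w => Finset.univ.filter fun x => 𝔖.wG x = w with hC
  set c := (Nat.card P.B : ℂ) with hc
  have hc0 : c ≠ 0 := cB_ne_zero
  set K : M.Group → ℂ := fun w => ((C w).card : ℂ) *
    ∑ b ∈ SB, ∑ b' ∈ SB, F ((b * (𝔖.nv w : G))⁻¹ * g * (b' * (𝔖.nv w : G))) with hK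
  have hT : ∀ w, c ^ 4 * conv P (𝔖.T w) (conv P F (𝔖.T w⁻¹)) g = ((C w).card : ℂ) * K w := by
    intro w
    have e1 : conv P (𝔖.T w) (conv P F (𝔖.T w⁻¹)) g = c⁻¹ ^ 2 * ∑ a ∈ C w, ∑ d ∈ C w, F (a⁻¹ * g * d) := by
      rw [conv_T_left, pow_two, mul_assoc]
      congr 1
      rw [Finset.mul_sum]
      refine Finset.sum_congr rfl fun a _ => ?_
      simp only [conv, T_apply, mul_ite, mul_one, mul_zero, ← Finset.sum_filter]
      congr 1
      refine Finset.sum_equiv (Equiv.mulLeft (a⁻¹ * g)⁻¹) (fun y => ?_) (fun y _ => ?_)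
      · simp only [hC, Finset.mem_filter, Finset.mem_univ, true_and, Equiv.coe_mulLeft]
        rw [show (a⁻¹ * g)⁻¹ * y = (y⁻¹ * (a⁻¹ * g))⁻¹ by group, wG_inv, inv_eq_iff_eq_inv]
      · simp only [Equiv.coe_mulLeft]
        congr 1
        group
    have e2 : c * ∑ a ∈ C w, ∑ d ∈ C w, F (a⁻¹ * g * d) =
        ((C w).card : ℂ) * ∑ b ∈ SB, ∑ d ∈ C w, F ((b * (𝔖.nv w : G))⁻¹ * g * d) :=
      𝔖.sum_cell (F := fun a => ∑ d ∈ C w, F (a⁻¹ * g * d)) (fun b hb a => Finset.sum_congr rfl fun d _ => by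
        rw [_root_.mul_inv_rev, show b⁻¹ * a⁻¹ * g * d = b⁻¹ * (a⁻¹ * g * d) by group, hF.1 _ (inv_mem hb)]) w
    have e3 : ∀ b, c * ∑ d ∈ C w, F ((b * (𝔖.nv w : G))⁻¹ * g * d) =
        ((C w).card : ℂ) * ∑ b' ∈ SB, F ((b * (𝔖.nv w : G))⁻¹ * g * (b' * (𝔖.nv w : G))) := fun b =>
      𝔖.sum_cell (F := fun d => F ((b * (𝔖.nv w : G))⁻¹ * g * d)) (fun b' hb d => by
        rw [← mul_assoc, hF.2 _ hb]) w
    rw [e1, show c ^ 4 * (c⁻¹ ^ 2 * ∑ a ∈ C w, ∑ d ∈ C w, F (a⁻¹ * g * d)) =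
      c * (c * ∑ a ∈ C w, ∑ d ∈ C w, F (a⁻¹ * g * d)) by field_simp, e2, ← mul_assoc, mul_comm c, mul_assoc,
      Finset.mul_sum, Finset.sum_congr rfl fun b _ => e3 b, ← Finset.mul_sum]
  have hA : c ^ 2 * conv P (𝔖.T 1) (cls F) g = ∑ w : M.Group, K w := by
    rw [conv_T_left, ← hc, show (Finset.univ.filter fun x => 𝔖.wG x = 1) = SB from
      Finset.filter_congr fun x _ => 𝔖.wG_eq_one_iff x]
    have e4 : ∀ y, c * cls F y = ∑ w : M.Group, ((C w).card : ℂ) * ∑ b' ∈ SB,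
        F ((b' * (𝔖.nv w : G))⁻¹ * y * (b' * (𝔖.nv w : G))) := by
      intro y
      simp only [cls, LinearMap.coe_mk, AddHom.coe_mk]
      rw [← Finset.sum_fiberwise Finset.univ 𝔖.wG, Finset.mul_sum]
      refine Finset.sum_congr rfl fun w _ => ?_
      exact 𝔖.sum_cell (F := fun h => F (h⁻¹ * y * h)) (fun b hb h => by
        rw [show (h * b)⁻¹ * y * (h * b) = b⁻¹ * (h⁻¹ * y * h) * b by group, hF.2 _ hb, hF.1 _ (inv_mem hb)]) w
    rw [show c ^ 2 * (c⁻¹ * ∑ x ∈ SB, cls F (x⁻¹ * g)) = ∑ x ∈ SB, c * cls F (x⁻¹ * g) by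
      rw [← Finset.mul_sum]; field_simp, Finset.sum_congr rfl fun x _ => e4 _, Finset.sum_comm]
    refine Finset.sum_congr rfl fun w _ => ?_
    rw [hK, ← Finset.mul_sum]
    congr 1
    rw [Finset.sum_comm]
    conv_rhs => rw [Finset.sum_comm]
    refine Finset.sum_congr rfl fun b' hb' => ?_
    have hb'' : b' ∈ P.B := (Finset.mem_filter.1 hb').2
    refine Finset.sum_equiv (Equiv.mulRight b') (fun x => ?_) (fun x _ => ?_)
    · simp [hSB, Subgroup.mul_mem_cancel_right _ hb'']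
    · congr 1
      simp only [Equiv.coe_mulRight]
      group
  simp only [gam, Finset.sum_apply, Pi.smul_apply, smul_eq_mul]
  apply mul_left_cancel₀ (pow_ne_zero 3 hc0)
  rw [Finset.mul_sum, show c ^ 3 * (c⁻¹ * conv P (𝔖.T 1) (cls F) g) = c ^ 2 * conv P (𝔖.T 1) (cls F) g by
    field_simp, hA]
  refine Finset.sum_congr rfl fun w _ => ?_
  have hw := hT w
  rw [show ((C w).card : ℂ) = (q : ℂ) ^ M.toCoxeterSystem.length w * c from 𝔖.card_cell_eq w] at hw
  have h3 : c ^ 3 * conv P (𝔖.T w) (conv P F (𝔖.T w⁻¹)) g = (q : ℂ) ^ M.toCoxeterSystem.length w * K w :=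
    mul_left_cancel₀ hc0 (by linear_combination hw)
  rw [mul_left_comm, h3, inv_mul_cancel_left₀ (pow_ne_zero _ (Nat.cast_ne_zero.2 hq.ne'))]

theorem gam_central (hq : 0 < q) {F K : G → ℂ} (hF : BiInv P F) (hK : BiInv P K) :
    conv P (𝔖.gam F) K = conv P K (𝔖.gam F) := by
  rw [𝔖.gam_eq_avg hq hF, conv_smul_left, conv_smul_right, 𝔖.conv_class_central (cls_class F) hK]

theorem Bp_eval_eq_zero_iff (f : M.Group → ℂ) :
    (Bp M).map (Polynomial.eval (q : ℂ)) *ᵥ f = 0 ↔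
      ∀ i, conv P (𝔖.T (M.simple i)) (𝔖.ext f) = conv P (𝔖.ext f) (𝔖.T (M.simple i)) := by
  simp only [conv_s, conv_s_right]
  constructor
  · intro h i
    refine congrArg 𝔖.ext (funext fun v => ?_)
    have := congrFun h (i, v)
    rwa [Bp_mulVec, Pi.zero_apply, sub_eq_zero] at this
  · intro h
    funext p
    rw [Bp_mulVec, Pi.zero_apply, 𝔖.ext_injective (h p.1), sub_self]

include 𝔖 in
theorem Bp_mul_Ap_eval (hq : 0 < q) :
    (Bp M).map (Polynomial.eval (q : ℂ)) * (Ap M).map (Polynomial.eval (q : ℂ)) = 0 := by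
  have h0 : ∀ f, (Bp M).map (Polynomial.eval (q : ℂ)) *ᵥ ((Ap M).map (Polynomial.eval (q : ℂ)) *ᵥ f) = 0 := by
    intro f
    rw [𝔖.Bp_eval_eq_zero_iff]
    intro i
    rw [𝔖.ext_Ap hq, conv_smul_left, conv_smul_right, 𝔖.gam_central hq (𝔖.biInv_ext f) (𝔖.biInv_T _)]
  refine Matrix.ext_of_mulVec_single fun j => ?_
  rw [← mulVec_mulVec, h0, zero_mulVec]

theorem commute_T {z : M.Group → ℂ} (hz : (Bp M).map (Polynomial.eval (q : ℂ)) *ᵥ z = 0) (w : M.Group) :
    conv P (𝔖.T w) (𝔖.ext z) = conv P (𝔖.ext z) (𝔖.T w) := by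
  rw [𝔖.Bp_eval_eq_zero_iff] at hz
  obtain ⟨l, hl, rfl⟩ := M.toCoxeterSystem.exists_isReduced w
  induction l with
  | nil => rw [M.toCoxeterSystem.wordProd_nil, 𝔖.conv_one_left (𝔖.biInv_ext z).1, 𝔖.conv_one_right (𝔖.biInv_ext z).2]
  | cons i l ih =>
    have hl' : M.toCoxeterSystem.IsReduced l := hl.drop 1
    have hup : M.toCoxeterSystem.length (M.toCoxeterSystem.wordProd l) <
        M.toCoxeterSystem.length (M.simple i * M.toCoxeterSystem.wordProd l) := by
      have h := hl.eq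
      rw [M.toCoxeterSystem.wordProd_cons, List.length_cons] at h
      rw [hl'.eq, show M.simple i = M.toCoxeterSystem.simple i from rfl, h]
      omega
    rw [M.toCoxeterSystem.wordProd_cons, show M.toCoxeterSystem.simple i = M.simple i from rfl,
      ← 𝔖.T_mul_up i _ hup, conv_assoc, ih hl', ← conv_assoc, hz i, conv_assoc]

/-- The adjoint of convolution by a cell is convolution by the inverse cell. -/
theorem adjoint_T (w : M.Group) (y z : G → ℂ) :
    ∑ g, conj (y g) * conv P (𝔖.T w) z g = ∑ g, conj (conv P (𝔖.T w⁻¹) y g) * z g := by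
  classical
  simp only [conv, map_mul, map_sum, map_inv₀, map_natCast, T_apply, apply_ite conj, map_one, map_zero,
    Finset.mul_sum, Finset.sum_mul]
  rw [Finset.sum_comm]
  conv_rhs => rw [Finset.sum_comm]
  refine Fintype.sum_equiv (Equiv.inv G) _ _ fun x => ?_
  refine Fintype.sum_equiv (Equiv.mulLeft x⁻¹) _ _ fun g => ?_
  simp only [Equiv.inv_apply, Equiv.coe_mulLeft, inv_inv, mul_inv_cancel_left, wG_inv, _root_.inv_inj]
  ring

theorem conv_gam_one_injective (hq : 0 < q) {y : G → ℂ} (hy : BiInv P y)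
    (h : conv P (𝔖.gam (𝔖.T 1)) y = 0) : y = 0 := by
  set c : M.Group → ℝ := fun w => ((q : ℝ) ^ M.toCoxeterSystem.length w)⁻¹
  set S : M.Group → ℝ := fun w => ∑ g, Complex.normSq (conv P (𝔖.T w⁻¹) y g)
  have hterm : ∀ w : M.Group, ∑ g, conj (y g) * conv P (conv P (𝔖.T w) (conv P (𝔖.T 1) (𝔖.T w⁻¹))) y g = (S w : ℂ) := by
    intro w
    rw [𝔖.conv_one_left (𝔖.biInv_T _).1]
    simp only [conv_assoc]
    rw [adjoint_T]
    simp only [S, Complex.ofReal_sum]
    exact Finset.sum_congr rfl fun g _ => (Complex.normSq_eq_conj_mul_self).symm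
  have hsum : ∑ w, c w * S w = 0 := by
    have h0 : ∑ g, conj (y g) * conv P (𝔖.gam (𝔖.T 1)) y g = 0 := by simp [h]
    rw [gam, conv_sum_left] at h0
    simp only [Finset.sum_apply, conv_smul_left, Pi.smul_apply, smul_eq_mul, Finset.mul_sum] at h0
    rw [Finset.sum_comm] at h0
    simp only [mul_left_comm (conj (y _)), ← Finset.mul_sum, hterm] at h0
    apply Complex.ofReal_injective
    simpa [c] using h0
  have h1 := (Finset.sum_eq_zero_iff_of_nonneg (fun w _ => mul_nonneg (by positivity)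
    (Finset.sum_nonneg fun g _ => Complex.normSq_nonneg _))).1 hsum 1 (Finset.mem_univ _)
  simp only [c, M.toCoxeterSystem.length_one, pow_zero, inv_one, one_mul, S] at h1
  funext g
  have := (Finset.sum_eq_zero_iff_of_nonneg (fun g _ => Complex.normSq_nonneg _)).1 h1 g (Finset.mem_univ _)
  rw [Complex.normSq_eq_zero, 𝔖.conv_one_left hy.1] at this
  exact this

theorem gam_central_arg (z : M.Group → ℂ) (hz : (Bp M).map (Polynomial.eval (q : ℂ)) *ᵥ z = 0) :
    𝔖.gam (𝔖.ext z) = conv P (𝔖.gam (𝔖.T 1)) (𝔖.ext z) := by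
  simp only [gam, conv_sum_left, conv_smul_left]
  refine Finset.sum_congr rfl fun w _ => ?_
  rw [𝔖.conv_one_left (𝔖.biInv_T _).1, conv_assoc, ← 𝔖.commute_T hz w⁻¹, ← conv_assoc]

include 𝔖 in
/-- Exactness at `t = q`. -/
theorem exact_q (hq : 0 < q) : LinearMap.ker ((Bp M).map (Polynomial.eval (q : ℂ))).mulVecLin ≤
      LinearMap.range ((Ap M).map (Polynomial.eval (q : ℂ))).mulVecLin := by
  set A := ((Ap M).map (Polynomial.eval (q : ℂ))).mulVecLin
  set Z := LinearMap.ker ((Bp M).map (Polynomial.eval (q : ℂ))).mulVecLin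
  have hAZ : ∀ f ∈ Z, A f ∈ Z := fun f _ => by
    change ((Bp M).map (Polynomial.eval (q : ℂ))).mulVecLin (A f) = 0
    rw [Matrix.mulVecLin_apply, Matrix.mulVecLin_apply, mulVec_mulVec, 𝔖.Bp_mul_Ap_eval hq, zero_mulVec]
  have hinj : Function.Injective (A.restrict hAZ) := by
    rw [← LinearMap.ker_eq_bot, LinearMap.ker_eq_bot']
    rintro ⟨f, hf⟩ h
    have h' : A f = 0 := congrArg Subtype.val h
    have e := 𝔖.ext_Ap hq f
    rw [show (Ap M).map (Polynomial.eval (q : ℂ)) *ᵥ f = 0 from h', map_zero, eq_comm, smul_eq_zero,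
      or_iff_right (pow_ne_zero _ (Nat.cast_ne_zero.2 hq.ne')), 𝔖.gam_central_arg f (show _ = 0 from hf)] at e
    exact Subtype.ext (𝔖.ext_injective ((𝔖.conv_gam_one_injective hq (𝔖.biInv_ext f) e).trans (map_zero _).symm))
  intro f hf
  obtain ⟨g, hg⟩ := (LinearMap.injective_iff_surjective.1 hinj) ⟨f, hf⟩
  exact ⟨g.1, congrArg Subtype.val hg⟩

/-- The sum of a function over `B`. -/
noncomputable def sumB (P : Cfsg.BNPair G) (χ : G → ℂ) : ℂ := by
  classical exact ∑ b ∈ Finset.univ.filter (fun b => b ∈ P.B), χ b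

theorem cls_conv_irr {χ : G → ℂ} (hχ : Cfsg.IsIrrCharacter G χ) :
    cls (conv P (𝔖.T 1) χ) = ((Nat.card P.B : ℂ)⁻¹ * ((Nat.card G : ℂ) * sumB P χ / χ 1)) • χ := by
  classical
  funext g
  have hcl := CfsgLib.Char.isClassFunction_of_isIrr hχ
  simp only [cls, LinearMap.coe_mk, AddHom.coe_mk, conv_T_left, Pi.smul_apply, smul_eq_mul]
  rw [← Finset.mul_sum, Finset.sum_comm, mul_assoc]
  congr 1
  rw [Finset.sum_congr rfl fun b _ => show ∑ h : G, χ (b⁻¹ * (h⁻¹ * g * h)) = (Nat.card G : ℂ) * χ g * χ b⁻¹ / χ 1 from ?_]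
  · simp only [Finset.filter_congr (fun x _ => 𝔖.wG_eq_one_iff x), sumB, Finset.mul_sum, Finset.sum_div,
      Finset.sum_mul]
    refine Finset.sum_equiv (Equiv.inv G) (fun x => by simp) fun x _ => ?_
    simp only [Equiv.inv_apply]
    ring
  · rw [← CfsgLib.Char.sum_char_conj_mul hχ g b⁻¹]
    refine Fintype.sum_equiv (Equiv.inv G) _ _ fun h => ?_
    rw [CfsgLib.Char.classFun_mul_comm hcl, Equiv.inv_apply, inv_inv]

theorem constituent_iff (χ : Cfsg.IrrCharacter G) :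
    (∃ φ : G → ℂ, Cfsg.IsCharacter G φ ∧ Cfsg.fixedPointCharacter P.B = (χ : G → ℂ) + φ) ↔
      sumB P (χ : G → ℂ) ≠ 0 := by
  classical
  have hperm : Cfsg.IsCharacter G (Cfsg.fixedPointCharacter P.B) :=
    CfsgLib.Char.isCharacter_permChar (G := G) (X := G ⧸ P.B)
  have hinner : Cfsg.classInner (Cfsg.fixedPointCharacter P.B) (χ : G → ℂ) =
      (Nat.card P.B : ℂ)⁻¹ * conj (sumB P (χ : G → ℂ)) := by
    haveI : Fintype ↥(MulAction.stabilizer G ((1 : G) : G ⧸ P.B)) := Fintype.ofFinite _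
    rw [show Cfsg.fixedPointCharacter P.B = _ from CfsgLib.Char.permChar_eq_indFun (G := G) ((1 : G) : G ⧸ P.B),
      CfsgLib.Char.frobenius_reciprocity _ _ (CfsgLib.Char.isClassFunction_of_isIrr χ.2), CfsgLib.Char.classInner_def]
    have hst : MulAction.stabilizer G ((1 : G) : G ⧸ P.B) = P.B := MulAction.stabilizer_quotient P.B
    have e : ∑ x : ↥(MulAction.stabilizer G ((1 : G) : G ⧸ P.B)), (1 : ℂ) * conj ((χ : G → ℂ) x) =
        conj (sumB P (χ : G → ℂ)) := by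
      simp only [sumB, map_sum, one_mul]
      rw [← Finset.sum_subtype (Finset.univ.filter fun b => b ∈ P.B) (fun x => by simp [hst])
        (fun x : G => conj ((χ : G → ℂ) x))]
    rw [e, hst]
  constructor
  · rintro ⟨φ, hφ, e⟩ h0
    rw [h0, map_zero, mul_zero, e, CfsgLib.Char.classInner_add_left, CfsgLib.Char.classInner_irr_self χ.2] at hinner
    obtain ⟨k, hk⟩ := CfsgLib.Char.classInner_char_nat hφ (CfsgLib.Char.isCharacter_of_isIrr χ.2)
    rw [hk] at hinner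
    exact absurd hinner (by exact_mod_cast Nat.succ_ne_zero k ∘ fun e => (Nat.add_comm _ _).trans e)
  · intro hS
    have hne : Cfsg.classInner (Cfsg.fixedPointCharacter P.B) (χ : G → ℂ) ≠ 0 := by
      rw [hinner]
      exact mul_ne_zero (inv_ne_zero cB_ne_zero) (by simpa using hS)
    obtain ⟨m, hdec, hm⟩ := CfsgLib.Char.char_decomp hperm
    have hm1 : 1 ≤ m χ := by
      by_contra hlt
      exact hne (by rw [hm, Nat.cast_eq_zero]; omega)
    refine ⟨Cfsg.fixedPointCharacter P.B - (χ : G → ℂ), CfsgLib.Char.isCharacter_of_classInner_nat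
      (CfsgLib.Char.isClassFunction_sub (CfsgLib.Char.isClassFunction_of_isCharacter hperm)
        (CfsgLib.Char.isClassFunction_of_isIrr χ.2)) (fun η hη => ?_), by abel⟩
    rw [CfsgLib.Char.classInner_sub_left, hm ⟨η, hη⟩, CfsgLib.Char.classInner_irr χ.2 hη]
    split_ifs with h
    · have : χ = ⟨η, hη⟩ := Subtype.ext h
      exact ⟨m χ - 1, by rw [← this, Nat.cast_sub hm1, Nat.cast_one]⟩
    · exact ⟨m ⟨η, hη⟩, by rw [sub_zero]⟩

include 𝔖 in
/-- The constituents of the permutation character on `G/B` are counted by the rank of the averaging matrix. -/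
theorem card_constituents (hq : 0 < q) :
    Nat.card {χ : Cfsg.IrrCharacter G //
      ∃ φ : G → ℂ, Cfsg.IsCharacter G φ ∧ Cfsg.fixedPointCharacter P.B = (χ : G → ℂ) + φ} =
      ((Ap M).map (Polynomial.eval (q : ℂ))).rank := by
  classical
  rw [Nat.card_congr (Equiv.subtypeEquivRight fun χ => constituent_iff χ)]
  haveI : Fintype {χ : Cfsg.IrrCharacter G // sumB P (χ : G → ℂ) ≠ 0} := Fintype.ofFinite _
  set A := ((Ap M).map (Polynomial.eval (q : ℂ))).mulVecLin with hA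
  have hqN : (q : ℂ) ^ topLen M ≠ 0 := pow_ne_zero _ (Nat.cast_ne_zero.2 hq.ne')
  set v : Cfsg.IrrCharacter G → G → ℂ := fun χ => conv P (𝔖.T 1) (χ : G → ℂ)
  have hcl : ∀ χ : Cfsg.IrrCharacter G, ∀ g h : G, (χ : G → ℂ) (h * g * h⁻¹) = (χ : G → ℂ) g := fun χ =>
    CfsgLib.Char.isClassFunction_of_isIrr χ.2
  -- each averaged character is a central element
  have hvZ : ∀ χ, ∃ z, (Bp M).map (Polynomial.eval (q : ℂ)) *ᵥ z = 0 ∧ 𝔖.ext z = v χ := by
    intro χ
    have hb := 𝔖.biInv_class (hcl χ)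
    refine ⟨_, ?_, (𝔖.eq_ext hb).symm⟩
    rw [𝔖.Bp_eval_eq_zero_iff, ← 𝔖.eq_ext hb]
    exact fun i => (𝔖.conv_class_central (hcl χ) (𝔖.biInv_T _)).symm
  have hzero : ∀ χ : Cfsg.IrrCharacter G, sumB P (χ : G → ℂ) = 0 → v χ = 0 := by
    intro χ hS
    obtain ⟨z, hz, hzv⟩ := hvZ χ
    rw [← hzv]
    refine 𝔖.conv_gam_one_injective hq (𝔖.biInv_ext z) ?_
    rw [← 𝔖.gam_central_arg z hz, hzv, 𝔖.gam_eq_avg hq (hzv ▸ 𝔖.biInv_ext z), 𝔖.cls_conv_irr χ.2, hS]
    simp
    funext g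
    simp [conv]
  have hspan : Submodule.map 𝔖.ext (LinearMap.range A) =
      Submodule.span ℂ (Set.range fun χ : {χ : Cfsg.IrrCharacter G // sumB P (χ : G → ℂ) ≠ 0} => v χ.1) := by
    apply le_antisymm
    · rintro _ ⟨_, ⟨f, rfl⟩, rfl⟩
      rw [hA, Matrix.mulVecLin_apply, 𝔖.ext_Ap hq, 𝔖.gam_eq_avg hq (𝔖.biInv_ext f),
        CfsgLib.Char.classFun_eq_sum (show Cfsg.IsClassFunction G (cls (𝔖.ext f)) from cls_class _), conv_sum_right]
      refine Submodule.smul_mem _ _ (Submodule.smul_mem _ _ (Submodule.sum_mem _ fun χ _ => ?_))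
      rw [conv_smul_right]
      by_cases hS : sumB P (χ : G → ℂ) = 0
      · rw [show conv P (𝔖.T 1) (χ : G → ℂ) = 0 from hzero χ hS, smul_zero]
        exact Submodule.zero_mem _
      · exact Submodule.smul_mem _ _ (Submodule.subset_span ⟨⟨χ, hS⟩, rfl⟩)
    · rw [Submodule.span_le]
      rintro _ ⟨χ, rfl⟩
      obtain ⟨z, hz, hzv⟩ := hvZ χ.1
      exact ⟨z, 𝔖.exact_q hq (by simpa using hz), hzv⟩
  have hli : LinearIndependent ℂ fun χ : {χ : Cfsg.IrrCharacter G // sumB P (χ : G → ℂ) ≠ 0} => v χ.1 := by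
    rw [Fintype.linearIndependent_iff]
    intro a ha χ₀
    have h1 := congrArg (cls (G := G)) ha
    simp only [map_sum, map_smul, map_zero, v, 𝔖.cls_conv_irr (_ : Cfsg.IrrCharacter G).2, smul_smul] at h1
    have hsub : LinearIndependent ℂ
        fun χ : {χ : Cfsg.IrrCharacter G // sumB P (χ : G → ℂ) ≠ 0} => ((χ.1 : Cfsg.IrrCharacter G) : G → ℂ) :=
      CfsgLib.Char.linearIndependent_irr.comp _ Subtype.val_injective
    have h2 := Fintype.linearIndependent_iff.1 hsub _ h1 χ₀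
    exact (mul_eq_zero.1 h2).resolve_right (mul_ne_zero (inv_ne_zero cB_ne_zero) (div_ne_zero
      (mul_ne_zero (Nat.cast_ne_zero.2 Nat.card_pos.ne') χ₀.2) (CfsgLib.Char.irr_one_ne_zero χ₀.1.2)))
  have h := finrank_span_eq_card hli
  rw [← hspan, ← (Submodule.equivMapOfInjective 𝔖.ext 𝔖.ext_injective (LinearMap.range A)).finrank_eq] at h
  rw [Nat.card_eq_fintype_card, ← h]
  rfl

end Sys

end CfsgLib.Hecke
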