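import Mathlib
import Cfsg.Agent.Lib.Hecke.Central
import Cfsg.Agent.Lib.BNSteinberg.Chevalley
import Cfsg.Agent.Lib.Chev.Coxs
import Cfsg.Agent.Lib.Chev.Order

/-!
The Hecke algebras of the Chevalley groups: the number of constituents of the permutation character on `G/B`.
-/

namespace CfsgLib.Hecke

open Cfsg.Lie CfsgLib.Chev

universe v

variable {D : ChevalleyDatum} {co : ℕ → ℕ → ℤ}

theorem flipNum_sP (hF : Facts D co) (i : Fin D.rank) : flipNum (sP D i) = 1 := by
  classical
  rw [flipNum, Finset.card_eq_one]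
  refine ⟨hF.simpleFin i, ?_⟩
  ext r
  simp only [Finset.mem_filter, Finset.mem_univ, true_and, Finset.mem_singleton]
  constructor
  · rintro ⟨h1, h2⟩
    by_contra hne
    have := (hF.sP_pos i h1 (fun e => hne (Fin.ext e))).1
    omega
  · rintro rfl
    refine ⟨(hF.simple_lt i.val i.isLt).1, ?_⟩
    rw [hF.sP_simple]
    change D.neg (D.simple i.val) < _
    have := hF.neg_lt_half (hF.simple_lt' i.isLt)
    have h1 := (hF.simple_lt i.val i.isLt).1
    omega

theorem exists_sys (hF : Facts D co) (hC : CommF.{v} D) {n : ℕ} {M : CoxeterMatrix (Fin n)} {N h : ℕ}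
    (hn : D.rank = n) (hc : CoxData D n M N h) (F : Type v) [Field F] [Fintype F] :
    Nonempty (Sys (hF.bnPair hC (K := F)) M (Fintype.card F)) := by
  subst hn
  obtain ⟨φ, hsurj, hker, hφs⟩ := exists_hom_coxeter hF F rfl hc
  let e := Subgroup.subgroupOfEquivOfLe (hF.monomial_le_group (F := F))
  have hel : ∀ i : Fin D.rank, BNSteinberg.el (K := F) hF i.val ∈ (hF.bnPair hC (K := F)).S := fun i => by
    rw [BNSteinberg.S_eq hF hC]
    exact ⟨i.val, i.isLt, rfl⟩
  refine ⟨
    { φ := φ.comp e.toMonoidHom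
      surj := hsurj.comp e.surjective
      ker := fun x => ?_
      s := fun i => BNSteinberg.el hF i.val
      s_mem := hel
      φ_s := fun i => ?_
      s_surj := fun x hx => ?_
      card_cell := fun i => ?_ }⟩
  · change φ (e x) = 1 ↔ _
    rw [← MonoidHom.mem_ker, hker, Subgroup.mem_subgroupOf]
    change ((x : ↥(D.group F)) : GL D.Idx F) ∈ D.diagonalSubgroup F ↔
      ((x : ↥(D.group F)) : GL D.Idx F) ∈ D.borelSubgroup F
    rw [← hF.borel_inf_monomial, Subgroup.mem_inf]
    exact ⟨fun h => h.1, fun h => ⟨h, x.2⟩⟩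
  · refine hφs i _ ?_
    change ((BNSteinberg.el (K := F) hF i.val : GL D.Idx F) : Matrix D.Idx D.Idx F) = _
    rw [BNSteinberg.el_val hF hC i.isLt]
    exact hF.nU_val (hF.simple_lt' i.isLt) 1
  · rw [BNSteinberg.S_eq hF hC] at hx
    obtain ⟨j, hj, rfl⟩ := hx
    exact ⟨⟨j, hj⟩, rfl⟩
  · set s := BNSteinberg.el (K := F) hF i.val with hs
    have hsv : (s : GL D.Idx F) = nS D F i := BNSteinberg.el_val hF hC i.isLt
    set σ := sP D i
    have hact : PermAct (nS D F i) σ := hF.permAct_nS i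
    let f : ↥(D.borelSubgroup F) × ↥(rootClosure D F (PosFlip σ)) → {x : ↥(D.group F) // x ∈ BN.cell (hF.bnPair hC) s} :=
      fun p => ⟨⟨p.1, hF.borel_le_group p.1.2⟩ * s *
          ⟨p.2, hF.pos_le_group (rootClosure_mono (fun _ _ h => h.2.1) p.2.2)⟩,
        BN.mem_cell.2 ⟨_, p.1.2, _, hF.pos_le_borel (rootClosure_mono (fun _ _ h => h.2.1) p.2.2), rfl⟩⟩
    have hbij : Function.Bijective f := by
      refine ⟨fun p p' e => ?_, fun x => ?_⟩
      · have e' : (p.1 : GL D.Idx F) * nS D F i * p.2 = (p'.1 : GL D.Idx F) * nS D F i * p'.2 := by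
          have := congrArg (fun z : {x : ↥(D.group F) // _} => ((z : ↥(D.group F)) : GL D.Idx F)) e
          simpa [f, hsv] using this
        have := hF.bruhat_unique hact p.1.2 p'.1.2 p.2.2 p'.2.2 e'
        exact Prod.ext (Subtype.ext this.1) (Subtype.ext this.2)
      · obtain ⟨b₁, hb₁, b₂, hb₂, he⟩ := BN.mem_cell.1 x.2
        obtain ⟨b, hb, m, hm, τ, hτ, u, hu, hbnu⟩ := hF.bruhat_exists hC x.1.2
        have he' : (b₁ : GL D.Idx F) * nS D F i * b₂ = b * m * u := by
          rw [← hbnu, ← hsv]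
          exact (congrArg Subtype.val he).symm
        have hd := hF.bruhat_eqv hC hb₁ hb (hF.nS_mem i) hm hb₂
          (hF.pos_le_borel (rootClosure_mono (fun _ _ h => h.2.1) hu)) he'
        have hτσ : σ = τ := inv_mul_eq_one.1 (hF.permAct_unique
          (hF.permAct_mul (hF.permAct_inv (hF.nS_mem i) hact) hτ) (hF.permAct_diagonal hd))
        subst hτσ
        have hd' : m * (nS D F i)⁻¹ ∈ D.diagonalSubgroup F := by
          refine hF.mem_diagonal_of_permAct (Subgroup.mul_mem _ hm (Subgroup.inv_mem _ (hF.nS_mem i))) ?_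
          have := hF.permAct_mul hτ (hF.permAct_inv (hF.nS_mem i) hact)
          rwa [mul_inv_cancel] at this
        refine ⟨(⟨b * (m * (nS D F i)⁻¹), Subgroup.mul_mem _ hb (hF.diagonal_le_borel hd')⟩, ⟨u, hu⟩),
          Subtype.ext (Subtype.ext ?_)⟩
        change b * (m * (nS D F i)⁻¹) * (s : GL D.Idx F) * u = _
        rw [hsv, hbnu, mul_assoc b, inv_mul_cancel_right]
    rw [← Nat.card_eq_of_bijective f hbij, Nat.card_prod, hF.card_flipClosure hC σ hact, flipNum_sP hF i,
      pow_one, Nat.card_eq_fintype_card (α := F), mul_comm]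
    congr 1
    exact (Nat.card_congr (Subgroup.subgroupOfEquivOfLe hF.borel_le_group).toEquiv).symm

/-- The number of constituents of the permutation character on `G/B` is the class number of the Weyl group. -/
theorem card_constituents_eq (hF : Facts D co) (hC : CommF.{v} D) (hC₀ : CommF.{0} D) {n : ℕ}
    {M : CoxeterMatrix (Fin n)} {N h : ℕ} (hn : D.rank = n) (hc : CoxData D n M N h) (hN : 0 < N)
    (F : Type v) [Field F] [Fintype F] :
    Nat.card {χ : Cfsg.IrrCharacter ↥(D.group F) //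
      ∃ φ : ↥(D.group F) → ℂ, Cfsg.IsCharacter ↥(D.group F) φ ∧
        Cfsg.fixedPointCharacter ((D.borelSubgroup F).subgroupOf (D.group F)) = (χ : ↥(D.group F) → ℂ) + φ} =
      Nat.card (ConjClasses M.Group) := by
  classical
  haveI : Finite M.Group := Nat.finite_of_card_ne_zero (by rw [hc.card]; omega)
  haveI : Fintype M.Group := Fintype.ofFinite _
  haveI : Fintype ↥(D.group F) := Fintype.ofFinite _
  obtain ⟨𝔖⟩ := exists_sys hF hC hn hc F
  have hq : 0 < Fintype.card F := Fintype.card_pos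
  have h0 : Bp M * Ap M = 0 := by
    ext p u
    simp only [Matrix.zero_apply]
    congr 1
    refine Polynomial.eq_zero_of_infinite_isRoot _ ?_
    refine Set.Infinite.mono (s := (fun k : ℕ => (k : ℂ)) '' {p | p.Prime}) ?_
      (Nat.infinite_setOf_prime.image (Nat.cast_injective.injOn))
    rintro _ ⟨ℓ, hℓ, rfl⟩
    haveI : Fact ℓ.Prime := ⟨hℓ⟩
    haveI : Fintype ↥(D.group (ZMod ℓ)) := Fintype.ofFinite _
    obtain ⟨𝔗⟩ := exists_sys hF hC₀ hn hc (ZMod ℓ)
    have := congrFun₂ (𝔗.Bp_mul_Ap_eval Fintype.card_pos) p u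
    rw [ZMod.card, ← Polynomial.coe_evalRingHom, ← Matrix.map_mul] at this
    simpa using this
  have hrank := rank_eq_of_exact (Ap M) (Bp M) h0 (Fintype.card F : ℂ) 1 (𝔖.exact_q hq) (exact_one M).1
  rw [← (exact_one M).2, ← hrank]
  exact 𝔖.card_constituents hq

end CfsgLib.Hecke
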